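import Cfsg.Agent.Lib.PLocal.CStar.Setup.SLCardThree
import Cfsg.Agent.Lib.PLocal.CStar.Split
import Cfsg.Agent.Lib.PLocal.CStar.Three.Adapt

/-!
A member over three elements with a complement is a plane adapted to the `3`-group.
-/

set_option linter.all false
set_option autoImplicit false

namespace Cfsg.Agent.PLocal.CStar.Setup

open Subgroup
open Cfsg.Agent.PLocal.Blocks
open Cfsg.Lib.Offender (fixed mem_fixed)
open Cfsg.Agent.FFNatural (commSpace mem_commSpace mul_app inv_app app_inv)
open Cfsg.Agent.PLocal.BlockModule (tU wl)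
open scoped MatrixGroups

universe u v

theorem det_of_sq_neg_one : ∀ a b c d : ZMod 3, a * a + b * c = -1 → a * b + b * d = 0 → c * a + d * c = 0 →
    c * b + d * d = -1 → a * d - b * c = 1 := by decide +kernel

variable {Γ : Type u} {V : Type v} [Group Γ] [AddCommGroup V] [Module (ZMod 3) V] [Fact (Nat.Prime 3)]
variable {f : Representation (ZMod 3) Γ V} {J : Subgroup Γ}

/-- The plane of a member over three elements. -/
theorem exists_plane (i : Member f J) (hF : Fintype.card i.F = 3) (hbot : i.W ⊓ fixed f i.E = ⊥)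
    (hline : i.line ≤ fixed f J) (hf : ∀ g, f g = 1 → g = 1) :
    ∃ P : Three.Plane f, P.E = i.E ∧ P.Adapt J ∧ (∀ v, P.pr v ∈ i.W) ∧ (∀ w ∈ i.W, P.pr w = w) ∧
      (∀ j ∈ J, i.x j = 0 → f j P.y = P.y) ∧ ∀ j ∈ J, i.x j ≠ 0 → f j P.y ≠ P.y := by
  have hinj : ∀ {a b : V}, a ∈ i.W → b ∈ i.W → i.psi a = i.psi b → a = b := fun {a b} ha hb e =>
    sub_eq_zero.1 ((Submodule.mem_bot (ZMod 3)).1
      (hbot.le ⟨sub_mem ha hb, (i.psi_eq_iff ha hb).1 e⟩))
  let σ : i.F ≃+* ZMod 3 := (ZMod.ringEquivOfPrime i.F Nat.prime_three hF).symm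
  -- the central involution
  have hrho : ∀ M : SL(2, i.F), M ^ 4 = 1 → ∃ e : ↥i.E, i.rho e = M := fun M hM =>
    MonoidHom.mem_range.1 (i.range.symm ▸ (mem_commutator_card_three hF M).2 hM)
  obtain ⟨e₁, he₁⟩ := hrho (-1) (Subtype.ext (by ext r s; fin_cases r <;> fin_cases s <;> simp [pow_succ]))
  have hlin1 : ∀ x : Fin 2 → i.F, SL2.lin (-1 : SL(2, i.F)) x = -x := fun x => by
    rw [SL2.lin_apply]
    funext j
    fin_cases j <;> simp [Matrix.mulVec, dotProduct, Fin.sum_univ_two]
  have hneg : ∀ w ∈ i.W, f (e₁ : Γ) w = -w := fun w hw => hinj (i.mem_W e₁.2 hw) (neg_mem hw) (by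
    rw [i.act e₁ w hw, he₁, hlin1, show -w = 0 - w by simp, i.psi_sub (zero_mem _) hw, i.psi_zero, zero_sub])
  let pr : V →ₗ[ZMod 3] V := f (e₁ : Γ) - LinearMap.id
  have hpr : ∀ v, pr v = f (e₁ : Γ) v - v := fun v => rfl
  have hprW : ∀ v, pr v ∈ i.W := fun v => mem_commSpace (f := f) e₁.2 v
  have hprw : ∀ w ∈ i.W, pr w = w := fun w hw => by
    rw [hpr, hneg w hw]
    linear_combination (norm := abel) -(Three.three w)
  have hzero : ∀ w ∈ i.W, f (e₁ : Γ) w = w → w = 0 := fun w hw e => by
    have h1 := hprw w hw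
    rw [hpr, e, sub_self] at h1
    exact h1.symm
  -- coordinates
  let ψ : ↥i.W →ₗ[ZMod 3] (Fin 2 → ZMod 3) := (AddMonoidHom.mk' (fun w : ↥i.W => fun r => σ (i.psi w r))
    fun a b => by funext r; simp [i.add a a.2 b b.2]).toZModLinearMap 3
  let α : V →ₗ[ZMod 3] ZMod 3 := (LinearMap.proj 0).comp (ψ.comp (pr.codRestrict i.W hprW))
  let β : V →ₗ[ZMod 3] ZMod 3 := (LinearMap.proj 1).comp (ψ.comp (pr.codRestrict i.W hprW))
  have hαw : ∀ w ∈ i.W, α w = σ (i.psi w 0) := fun w hw => by
    show σ (i.psi (pr w) 0) = _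
    rw [hprw w hw]
  have hβw : ∀ w ∈ i.W, β w = σ (i.psi w 1) := fun w hw => by
    show σ (i.psi (pr w) 1) = _
    rw [hprw w hw]
  obtain ⟨l, hl, hlv⟩ := i.surj ![1, 0]
  obtain ⟨y, hy, hyv⟩ := i.surj ![0, 1]
  have αl : α l = 1 := by rw [hαw l hl, hlv]; simp
  have αy : α y = 0 := by rw [hαw y hy, hyv]; simp
  have βl : β l = 0 := by rw [hβw l hl, hlv]; simp
  have βy : β y = 1 := by rw [hβw y hy, hyv]; simp
  have hW : ∀ w ∈ i.W, α w • l + β w • y = w := fun w hw => by
    have hm : α w • l + β w • y ∈ i.W := add_mem (Submodule.smul_mem _ _ hl) (Submodule.smul_mem _ _ hy)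
    refine hinj hm hw (funext fun r => σ.injective ?_)
    fin_cases r
    · show σ (i.psi _ 0) = σ (i.psi w 0)
      rw [← hαw _ hm, ← hαw w hw]
      simp [αl, αy]
    · show σ (i.psi _ 1) = σ (i.psi w 1)
      rw [← hβw _ hm, ← hβw w hw]
      simp [βl, βy]
  have hsplit : ∀ v, α v • l + β v • y = pr v := fun v => by
    conv_rhs => rw [← hW _ (hprW v)]
    congr 2
    · show σ (i.psi (pr v) 0) = α (pr v); rw [hαw _ (hprW v)]
    · show σ (i.psi (pr v) 1) = β (pr v); rw [hβw _ (hprW v)]
  have hcomp : ∀ v, α v = 0 → β v = 0 → f (e₁ : Γ) v = v := fun v ha hb => by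
    have h1 := hsplit v
    rw [ha, hb, zero_smul, zero_smul, add_zero, hpr] at h1
    exact sub_eq_zero.1 h1.symm
  have hcen : ∀ x ∈ i.E, (e₁ : Γ) * x = x * (e₁ : Γ) := fun d hd =>
    congrArg Subtype.val (i.rho_inj (a₁ := e₁ * ⟨d, hd⟩) (a₂ := ⟨d, hd⟩ * e₁) (by
      rw [map_mul, map_mul, he₁, neg_one_mul, mul_neg_one]))
  have hcol : ∀ (x : ↥i.E) (w : V), w ∈ i.W → ∀ a b : ZMod 3,
      SL2.lin (i.rho x) (i.psi w) = ![σ.symm a, σ.symm b] → f (x : Γ) w = a • l + b • y := by
    intro x w hw a b e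
    have hm := i.mem_W x.2 hw
    rw [← hW _ hm, hαw _ hm, hβw _ hm, i.act x w hw, e]
    simp
  let P : Three.Plane f :=
    { E := i.E
      l := l
      y := y
      α := α
      β := β
      αl := αl
      αy := αy
      βl := βl
      βy := βy
      fix := fun x hx v ha hb => by
        have hw : f x v - v ∈ i.W := mem_commSpace (f := f) hx v
        refine sub_eq_zero.1 (hzero _ hw ?_)
        rw [map_sub, hcomp v ha hb, ← mul_app, hcen x hx, mul_app, hcomp v ha hb]
      move := fun x hx v => hW _ (mem_commSpace (f := f) hx v)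
      inv := ⟨e₁, e₁.2, fun v => by rw [hsplit, hpr, add_sub_cancel]⟩
      quat := fun x hx => by
        have h4 : i.rho ⟨x, hx⟩ ^ 4 = 1 :=
          (mem_commutator_card_three hF _).1 (i.range ▸ ⟨⟨x, hx⟩, rfl⟩)
        rcases cases_card_three hF h4 with h | h | h
        · exact Or.inl (congrArg Subtype.val (i.rho_inj (a₁ := ⟨x, hx⟩) (a₂ := 1) (by rw [h, map_one])))
        · refine Or.inr (Or.inl fun v => ?_)
          rw [show x = (e₁ : Γ) from congrArg Subtype.val (i.rho_inj (a₁ := ⟨x, hx⟩) (a₂ := e₁) (by rw [h, he₁])),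
            hsplit, hpr, add_sub_cancel]
        · refine Or.inr (Or.inr fun v => ?_)
          rw [← mul_app, show x * x = (e₁ : Γ) from congrArg Subtype.val
            (i.rho_inj (a₁ := ⟨x, hx⟩ * ⟨x, hx⟩) (a₂ := e₁) (by rw [map_mul, h, he₁])),
            hsplit, hpr, add_sub_cancel]
      rot := by
        obtain ⟨x, hx⟩ := hrho (wl : SL(2, i.F))⁻¹ (by
          rw [inv_pow, inv_eq_one]
          refine SL2.lin_injective (Equiv.ext fun v => ?_)
          simp only [pow_succ, pow_zero, one_mul, map_mul, map_one, Equiv.Perm.mul_apply, SL2.wl_apply,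
            Equiv.Perm.one_apply]
          ext r; fin_cases r <;> simp)
        have hinv : ∀ v w : Fin 2 → i.F, SL2.lin (wl : SL(2, i.F)) w = v → SL2.lin (wl : SL(2, i.F))⁻¹ v = w :=
          fun v w e => by rw [← e, ← Equiv.Perm.mul_apply, ← map_mul, inv_mul_cancel, map_one]; rfl
        refine ⟨x, x.2, ?_, ?_⟩
        · have h1 := hcol x l hl 0 1 (by
            rw [hx, hlv, hinv _ ![0, 1] (by rw [SL2.wl_apply]; simp)]; simp)
          simpa using h1
        · have h1 := hcol x y hy (-1) 0 (by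
            rw [hx, hyv, hinv _ ![-1, 0] (by rw [SL2.wl_apply]; simp)]; simp)
          simpa using h1
      sw := by
        haveI := i.char
        have h3 : (3 : i.F) = 0 := CharP.cast_eq_zero i.F 3
        let M : SL(2, i.F) := ⟨!![1, 1; 1, -1], by rw [Matrix.det_fin_two_of]; linear_combination -h3⟩
        have hM2 : M * M = -1 := by
          refine Subtype.ext ?_
          show !![(1 : i.F), 1; 1, -1] * !![1, 1; 1, -1] = -1
          ext r s; fin_cases r <;> fin_cases s <;> simp [Matrix.mul_apply, Fin.sum_univ_two] <;> linear_combination h3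
        obtain ⟨x, hx⟩ := hrho M (by
          rw [show (4 : ℕ) = 2 * 2 from rfl, pow_mul, pow_two M, hM2, neg_one_sq])
        refine ⟨x, x.2, ?_, ?_⟩
        · have h1 := hcol x l hl 1 1 (by
            rw [hx, hlv, SL2.lin_apply]; funext r; fin_cases r <;> simp [M, Matrix.mulVec, dotProduct])
          simpa using h1
        · have h1 := hcol x y hy 1 (-1) (by
            rw [hx, hyv, SL2.lin_apply]; funext r; fin_cases r <;> simp [M, Matrix.mulVec, dotProduct])
          simpa [sub_eq_add_neg] using h1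
      large := fun g hfix hmove hsq => by
        have hgW : ∀ w ∈ i.W, f g w ∈ i.W := fun w hw => by
          have h1 := hmove w
          rw [show f g w = (f g w - w) + w by abel, ← h1]
          exact add_mem (add_mem (Submodule.smul_mem _ _ hl) (Submodule.smul_mem _ _ hy)) hw
        set a := α (f g l) with ha
        set c := β (f g l) with hc
        set b := α (f g y) with hb
        set d := β (f g y) with hd
        have hgl : f g l = a • l + c • y := (hW _ (hgW l hl)).symm
        have hgy : f g y = b • l + d • y := (hW _ (hgW y hy)).symm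
        have hll := hsq l
        rw [αl, βl, one_smul, zero_smul, add_zero, hgl, map_add, map_smul, map_smul, hgl, hgy] at hll
        have hyy := hsq y
        rw [αy, βy, zero_smul, one_smul, zero_add, hgy, map_add, map_smul, map_smul, hgl, hgy] at hyy
        have e1 := congrArg α hll
        have e2 := congrArg β hll
        have e3 := congrArg α hyy
        have e4 := congrArg β hyy
        simp only [map_add, map_smul, αl, αy, βl, βy, smul_eq_mul, mul_one, mul_zero, add_zero, zero_add] at e1 e2 e3 e4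
        have h2 : (1 : ZMod 3) + 1 = -1 := rfl
        rw [h2] at e1 e4
        have e1' : a * a + b * c = -1 := by rw [← e1]; ring
        have e2' : c * a + d * c = 0 := by rw [← e2]; ring
        have e3' : a * b + b * d = 0 := by rw [← e3]; ring
        have e4' : c * b + d * d = -1 := by rw [← e4]; ring
        have hdet := det_of_sq_neg_one a b c d e1' e3' e2' e4'
        let M : SL(2, i.F) := ⟨!![σ.symm a, σ.symm b; σ.symm c, σ.symm d], by
          rw [Matrix.det_fin_two_of, ← map_mul, ← map_mul, ← map_sub, hdet, map_one]⟩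
        have hM2 : M * M = -1 := by
          refine Subtype.ext ?_
          show !![σ.symm a, σ.symm b; σ.symm c, σ.symm d] * !![σ.symm a, σ.symm b; σ.symm c, σ.symm d] = -1
          ext r s; fin_cases r <;> fin_cases s <;>
            simp [Matrix.mul_apply, Fin.sum_univ_two, ← map_mul, ← map_add, e1', e2', e3', e4']
        obtain ⟨x, hx⟩ := hrho M (by rw [show (4 : ℕ) = 2 * 2 from rfl, pow_mul, pow_two M, hM2, neg_one_sq])
        have hxl : f (x : Γ) l = a • l + c • y := hcol x l hl a c (by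
          rw [hx, hlv, SL2.lin_apply]; funext r; fin_cases r <;> simp [M, Matrix.mulVec, dotProduct])
        have hxy : f (x : Γ) y = b • l + d • y := hcol x y hy b d (by
          rw [hx, hyv, SL2.lin_apply]; funext r; fin_cases r <;> simp [M, Matrix.mulVec, dotProduct])
        suffices e : g = x from e ▸ x.2
        refine Three.eq_of_app hf fun v => ?_
        have hv : v = (v - pr v) + (α v • l + β v • y) := by rw [hsplit]; abel
        have hu0 : α (v - pr v) = 0 ∧ β (v - pr v) = 0 := by
          rw [map_sub, map_sub, ← hsplit v]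
          constructor <;> simp [αl, αy, βl, βy]
        have hu1 : f (x : Γ) (v - pr v) = v - pr v := by
          have hw : f (x : Γ) (v - pr v) - (v - pr v) ∈ i.W := mem_commSpace (f := f) x.2 _
          refine sub_eq_zero.1 (hzero _ hw ?_)
          rw [map_sub, hcomp _ hu0.1 hu0.2, ← mul_app, hcen x x.2, mul_app, hcomp _ hu0.1 hu0.2]
        conv_lhs => rw [hv, map_add, hfix _ hu0.1 hu0.2, map_add, map_smul, map_smul, hgl, hgy]
        conv_rhs => rw [hv, map_add, hu1, map_add, map_smul, map_smul, hxl, hxy] }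
  have hP : ∀ v, P.pr v = pr v := hsplit
  have hcent : ∀ j ∈ J, (e₁ : Γ) * j = j * (e₁ : Γ) := by
    intro j hj
    have hm : j * e₁ * j⁻¹ ∈ i.E := (mem_normalizer_iff.1 (i.norm hj) _).1 e₁.2
    have e : (⟨_, hm⟩ : ↥i.E) = e₁ := i.rho_inj (by
      rw [he₁]
      refine i.rho_eq_of hm fun w hw => ?_
      have h1 := i.map_mem (inv_mem (i.norm hj)) hw
      rw [mul_app, mul_app, hneg _ h1, map_neg, app_inv, hlin1, show -w = 0 - w by simp,
        i.psi_sub (zero_mem _) hw, i.psi_zero, zero_sub])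
    exact (mul_inv_eq_iff_eq_mul.1 (congrArg Subtype.val e : j * e₁ * j⁻¹ = (e₁ : Γ))).symm
  have hcj : ∀ j ∈ J, ∀ v, pr (f j v) = f j (pr v) := fun j hj v => by
    rw [hpr, hpr, map_sub, ← mul_app, hcent j hj, mul_app]
  refine ⟨P, rfl, ⟨fun j hj v => by rw [hP, hP, hcj j hj v], fun j hj => ?_, fun j hj v => ?_, ?_⟩,
    fun v => by rw [hP]; exact hprW v, fun w hw => by rw [hP, hprw w hw], fun j hj hx => ?_, fun j hj hx e => ?_⟩
  · exact hline ⟨hl, by rw [hlv]; rfl⟩ j hj
  · show σ (i.psi (pr (f j v)) 1) = σ (i.psi (pr v) 1)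
    rw [hcj j hj v, i.upper j hj _ (hprW v), SL2.tU_apply]
    rfl
  · obtain ⟨j, hj, hx⟩ := i.ne
    refine ⟨j, hj, fun e => ?_⟩
    have h1 := (i.mem_line_of_fix hj hx hy e).2
    rw [hyv] at h1
    simp at h1
  · exact (i.triv hf hj hx).2.1 y hy
  · have h1 := (i.mem_line_of_fix hj hx hy e).2
    rw [hyv] at h1
    simp at h1

end Cfsg.Agent.PLocal.CStar.Setup
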