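import Cfsg.Agent.Lib.PLocal.PushUp.SLThree

/-!
The derived group of `SL₂` over a field with three elements.
-/

set_option linter.all false
set_option autoImplicit false

namespace Cfsg.Agent.PLocal.CStar.Setup

open Subgroup
open scoped MatrixGroups

theorem slThree_cases : ∀ A : SL(2, ZMod 3), A ^ 4 = 1 → A = 1 ∨ A = -1 ∨ A * A = -1 := by decide +kernel

variable {F : Type} [Field F] [Fintype F]

/-- Coordinates in the prime field. -/
theorem exists_slThree_equiv (hF : Fintype.card F = 3) :
    ∃ ψ : SL(2, F) ≃* SL(2, ZMod 3), ψ (-1) = -1 := by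
  let e3 : F ≃+* ZMod 3 := (ZMod.ringEquivOfPrime F Nat.prime_three hF).symm
  let me : SL(2, F) →* SL(2, ZMod 3) := Matrix.SpecialLinearGroup.map e3.toRingHom
  have hinj : Function.Injective me := fun a b e => by
    refine Subtype.ext (Matrix.ext fun i k => e3.injective ?_)
    exact congrFun (congrFun (congrArg Subtype.val e) i) k
  have hsurj : Function.Surjective me := fun A => by
    refine ⟨Matrix.SpecialLinearGroup.map e3.symm.toRingHom A, Subtype.ext (Matrix.ext fun i k => ?_)⟩
    exact e3.apply_symm_apply _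
  refine ⟨MulEquiv.ofBijective me ⟨hinj, hsurj⟩, ?_⟩
  refine Subtype.ext (Matrix.ext fun i k => ?_)
  show e3 ((-1 : SL(2, F)).1 i k) = _
  fin_cases i <;> fin_cases k <;> simp

theorem mem_commutator_card_three (hF : Fintype.card F = 3) (A : SL(2, F)) :
    A ∈ commutator SL(2, F) ↔ A ^ 4 = 1 := by
  obtain ⟨ψ, -⟩ := exists_slThree_equiv hF
  have hmap : (commutator SL(2, F)).map ψ.toMonoidHom = commutator SL(2, ZMod 3) := by
    rw [_root_.commutator_def, _root_.commutator_def, map_commutator, ← MonoidHom.range_eq_map,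
      show ψ.toMonoidHom.range = ⊤ from MonoidHom.range_eq_top.2 ψ.surjective]
  rw [← mem_map_iff_mem (f := ψ.toMonoidHom) ψ.injective, hmap, PushUp.mem_commutator_three]
  show ψ A ^ 4 = 1 ↔ _
  rw [← map_pow, MulEquiv.map_eq_one_iff]

theorem cases_card_three (hF : Fintype.card F = 3) {A : SL(2, F)} (hA : A ^ 4 = 1) :
    A = 1 ∨ A = -1 ∨ A * A = -1 := by
  obtain ⟨ψ, hψ⟩ := exists_slThree_equiv hF
  rcases slThree_cases (ψ A) (by rw [← map_pow, hA, map_one]) with h | h | h
  · exact Or.inl (ψ.injective (by rw [h, map_one]))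
  · exact Or.inr (Or.inl (ψ.injective (by rw [h, hψ])))
  · exact Or.inr (Or.inr (ψ.injective (by rw [map_mul, h, hψ])))

end Cfsg.Agent.PLocal.CStar.Setup
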