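import Cfsg.Agent.Lib.PLocal.CStar.Setup.BlockY
import Cfsg.Agent.Lib.PLocal.CStar.Setup.PlaneOf
import Cfsg.Agent.Lib.PLocal.CStar.Assembly.OrbitSubnormal

/-!
An orbit of blocks over three elements gives planes on `Y`.
-/

set_option linter.all false
set_option autoImplicit false

namespace Cfsg.Agent.PLocal.CStar.Setup

open Subgroup Cfsg
open Cfsg.Lib.Offender (fixed mem_fixed)
open Cfsg.Agent.FFNatural (cg mul_app)
open Cfsg.Agent.PLocal.CStar.Assembly (OrbitBlock block_cj_normalizer isLin_cj)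
open scoped commutatorElement

universe u

variable {G : Type u} [Group G] [Finite G] {p : ℕ} [Fact p.Prime]
variable {Γ V : Type u} [Group Γ] [AddCommGroup V] [Module (ZMod p) V] [Finite Γ] [Finite V]
variable {T : Sylow p G} {f : Representation (ZMod p) Γ V} {π : G →* Γ} {co : V → G}

local notation "YY" => yOf p (T : Subgroup G)

namespace EnvY

variable (h : EnvY T f π co)
include h

/-- The members of the family have the largest weight among their subgroups, in any characteristic. -/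
theorem family_weight {A' : Subgroup Γ} (hA : A' ∈ family p π) {B' : Subgroup Γ} (hB : B' ≤ A') :
    Nat.card ↥B' * Nat.card ↥(fixed f B') ≤ Nat.card ↥A' * Nat.card ↥(fixed f A') ∧
      (Nat.card ↥B' * Nat.card ↥(fixed f B') = Nat.card ↥A' * Nat.card ↥(fixed f A') → B' ∈ family p π) := by
  obtain ⟨A, hA, rfl⟩ := hA
  set B := A ⊓ B'.comap π with hBdef
  have hmap : B.map π = B' := map_inf_comap hB
  obtain ⟨h1, h2, h3⟩ := h.key_bound hA (inf_le_left : B ≤ A)
  have eA := card_map_mul π A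
  have eB := card_map_mul π B
  rw [h.ker_inf_eq hA, hmap] at eB
  have hk : 0 < Nat.card ↥(A ⊓ π.ker) := Nat.card_pos
  rw [show fixed f B' = fixed f (B.map π) by rw [hmap], h.card_fixed, h.card_fixed]
  set Z := YY ⊓ centralizer (B : Set G)
  refine ⟨Nat.le_of_mul_le_mul_right (c := Nat.card ↥(A ⊓ π.ker)) ?_ hk, fun e => ?_⟩
  · calc Nat.card ↥B' * Nat.card ↥Z * Nat.card ↥(A ⊓ π.ker)
        = Nat.card ↥B * Nat.card ↥Z := by rw [← eB]; ring
      _ ≤ Nat.card ↥A * Nat.card ↥(YY ⊓ centralizer (A : Set G)) := h1.le.trans (Nat.mul_le_mul h2 h3)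
      _ = _ := by rw [← eA]; ring
  · have e' : Nat.card ↥B * Nat.card ↥Z = Nat.card ↥A * Nat.card ↥(YY ⊓ centralizer (A : Set G)) := by
      rw [← eB, ← eA]
      linear_combination (Nat.card ↥(A ⊓ π.ker)) * e
    have hcard : Nat.card ↥A ≤ Nat.card ↥(B ⊔ Z) := Nat.le_of_mul_le_mul_right (c := Nat.card ↥(B ⊓ Z))
      ((Nat.mul_le_mul_left _ h3).trans (e'.ge.trans h1.le)) Nat.card_pos
    refine ⟨B ⊔ Z, ⟨h.elementary_sup (ThompsonSubgroup.IsElementaryAbelian.mono hA.1 inf_le_left), fun C hC =>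
      (hA.2 C hC).trans hcard⟩, ?_⟩
    rw [Subgroup.map_sup, hmap, (Subgroup.map_eq_bot_iff _).2 ?_, sup_bot_eq]
    rw [h.kerEq]
    exact inf_le_left.trans fun y hy => mem_centralizer_iff.2 fun z hz =>
      (ThompsonSubgroup.isElementaryAbelian_iff.1 (yOf_elementary h.charP T)).1 z hz y hy

theorem family_weight_ge {A' : Subgroup Γ} (hA : A' ∈ family p π) :
    Nat.card V ≤ Nat.card ↥A' * Nat.card ↥(fixed f A') := by
  have e : Nat.card ↥(⊥ : Subgroup Γ) * Nat.card ↥(fixed f (⊥ : Subgroup Γ)) = Nat.card V := by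
    have : fixed f (⊥ : Subgroup Γ) = ⊤ := eq_top_iff.2 fun v _ => mem_fixed.2 fun g hg => by
      rw [mem_bot.1 hg, map_one]; rfl
    rw [this, Subgroup.card_bot, one_mul]
    exact Nat.card_congr Submodule.topEquiv.toEquiv
  exact e ▸ (h.family_weight hA bot_le).1

end EnvY

section three

variable [Fact (Nat.Prime 3)] {T₃ : Sylow 3 G} {X : Subgroup G}

/-- A block without a representation over at least four elements is over three. -/
theorem card_three_of_not_lin (hX : IsBaumannBlock 3 (T₃ : Subgroup G) X) (hlin : ¬ IsLin 3 X) :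
    ∃ (F : Type) (_ : Field F) (_ : Fintype F) (_ : CharP F 3) (ρ : Blocks.Rep 3 X (Fin 2 → F)),
      ρ.onBlock.range = Blocks.SL2.img F ∧ Fintype.card F = 3 := by
  rcases Blocks.block_cases hX with ⟨F, iF, iFt, iC, n, ρ, hF, hρ, -⟩ | ⟨h2, -⟩
  · refine ⟨F, iF, iFt, iC, ρ, hρ, ?_⟩
    by_contra hne
    refine hlin ⟨F, iF, iFt, iC, ρ, hρ, ?_⟩
    rcases Nat.eq_zero_or_pos n with h0 | h0
    · rw [h0, pow_zero] at hF
      exact absurd hF Fintype.one_lt_card.ne'
    · have := Nat.le_self_pow h0.ne' 3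
      omega
  · omega

variable {Γ₃ V₃ : Type u} [Group Γ₃] [AddCommGroup V₃] [Module (ZMod 3) V₃] [Finite Γ₃] [Finite V₃]
variable {g₃ : Representation (ZMod 3) Γ₃ V₃} {π₃ : G →* Γ₃} {co₃ : V₃ → G}

local notation "J₃" => Subgroup.map π₃ (baumannSubgroupOf 3 (T₃ : Subgroup G))

/-- The planes of an orbit, each moved by an offender in the Sylow subgroup. -/
theorem EnvY.exists_planes (h : EnvY T₃ g₃ π₃ co₃) (hX : OrbitBlock T₃ (fun X => ¬ IsLin 3 X) X) :
    ∃ P : ↥(orbit (T₃ : Subgroup G) X) → Three.Plane g₃,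
      Three.Planes g₃ (T₃.mapSurjective h.surj) J₃ P ∧ (∀ k, (P k).E = k.1.map π₃) ∧
      (∀ k l, ∃ t ∈ (T₃ : Subgroup G).map π₃, cg t (P k).E = (P l).E) ∧
      ∀ k, ∃ A ∈ EnvY.family 3 π₃, A ≤ (T₃ : Subgroup G).map π₃ ∧ ∃ a ∈ A, g₃ a (P k).y ≠ (P k).y := by
  have hex : ∀ k : ↥(orbit (T₃ : Subgroup G) X), ∃ P : Three.Plane g₃, P.E = k.1.map π₃ ∧ P.Adapt J₃ ∧
      ∃ A ∈ EnvY.family 3 π₃, A ≤ (T₃ : Subgroup G).map π₃ ∧ ∃ a ∈ A, g₃ a P.y ≠ P.y := by
    rintro ⟨_, t, ht, rfl⟩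
    obtain ⟨F, iF, iFt, iC, ρ, hρ, hF⟩ := card_three_of_not_lin (block_cj_normalizer hX.block (le_normalizer ht))
      fun hl => hX.kind_mem ((isLin_cj t).1 hl)
    obtain ⟨i, hiE, hcard, -, hline, ⟨A, hA, hAT, hfull⟩, hbot⟩ :=
      h.exists_member_base (block_cj_normalizer hX.block (le_normalizer ht)) ρ hρ
    obtain ⟨P, hPE, hPA, -, -, -, hmove⟩ :=
      exists_plane i (hcard.trans hF) (hbot (by norm_num)) hline h.faithful
    refine ⟨P, hPE.trans hiE, hPA, A, hA, hAT, ?_⟩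
    obtain ⟨a, ha, hax⟩ := hfull 1
    exact ⟨a, ha, hmove a (h.family_le hA hAT ha) (by rw [hax]; exact one_ne_zero)⟩
  choose P hPE hPA A hA hAT hmv using hex
  have hcg : ∀ (t : G) (E : Subgroup G), cg (π₃ t) (E.map π₃) = (Blocks.cj t E).map π₃ := fun t E => by
    show (E.map π₃).map (MulAut.conj (π₃ t)).toMonoidHom = (E.map (MulAut.conj t).toMonoidHom).map π₃
    rw [Subgroup.map_map, Subgroup.map_map]
    congr 1
    ext x
    simp
  have hperm : ∀ t ∈ (T₃ : Subgroup G).map π₃, ∀ k, ∃ m, cg t (P k).E = (P m).E := by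
    rintro _ ⟨t, ht, rfl⟩ k
    obtain ⟨a, ha, e⟩ := k.2
    refine ⟨⟨Blocks.cj t k.1, t * a, mul_mem ht ha, by rw [← Blocks.cj_cj, e]⟩, ?_⟩
    rw [hPE, hPE, hcg]
  refine ⟨P, ⟨h.faithful, h.J_le, fun g hg => ?_, hPA, hperm, fun k m hne x hx y hy => ?_⟩, hPE, fun k l => ?_,
    fun k => ⟨A k, hA k, hAT k, hmv k⟩⟩
  · exact mem_normalizer_iff_map_conj_eq.1 (weak_of_surj h.surj hg).1
  · rw [hPE] at hx hy
    obtain ⟨a, ha, rfl⟩ := hx
    obtain ⟨b, hb, rfl⟩ := hy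
    rw [← map_mul, ← map_mul]
    congr 1
    obtain ⟨s, hs, es⟩ := k.2
    obtain ⟨r, hr, er⟩ := m.2
    have hne' : Blocks.cj (r⁻¹ * s) X ≠ X := fun e => hne (by
      rw [hPE, hPE, ← es, ← er]
      have := congrArg (Blocks.cj r) e
      rw [Blocks.cj_cj, mul_inv_cancel_left] at this
      rw [this])
    have hc := congrArg (Blocks.cj r) ((hX.comm _ (mul_mem (inv_mem hr) hs)).resolve_left hne')
    rw [Blocks.cj_commutator, Blocks.cj_cj, mul_inv_cancel_left, Blocks.cj_bot, es, er] at hc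
    exact (mem_centralizer_iff.1 (commutator_eq_bot_iff_le_centralizer.1 hc ha) b hb).symm
  · obtain ⟨a, ha, ea⟩ := k.2
    obtain ⟨b, hb, eb⟩ := l.2
    refine ⟨π₃ (b * a⁻¹), mem_map_of_mem π₃ (mul_mem hb (inv_mem ha)), ?_⟩
    rw [hPE, hPE, hcg, ← ea, ← eb, Blocks.cj_cj, inv_mul_cancel_right]

end three

end Cfsg.Agent.PLocal.CStar.Setup
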